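import Mathlib.Algebra.Category.ModuleCat.Algebra
import Mathlib.RingTheory.Noetherian.Basic
import Mathlib.LinearAlgebra.Dimension.Free
import Mathlib.LinearAlgebra.FiniteDimensional.Defs
import Mathlib.Algebra.Module.Projective
import Mathlib.RingTheory.FiniteType
import Mathlib.Algebra.Category.ModuleCat.Projective
import Mathlib.Algebra.Homology.ShortComplex.ModuleCat

/-!
Dévissage over a triangular finite dimensional algebra: all finite modules are built from
finite projective modules by extensions and quotients.
-/

set_option autoImplicit false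
set_option linter.style.haveILetI false

universe u

open CategoryTheory

namespace Groth.Agent.BeilCompact

/-- a complete system of idempotents making `R` upper triangular with scalar diagonal -/
structure Triangular (k : Type u) [Field k] (R : Type u) [Ring R] [Algebra k R] (N : ℕ) (e : Fin N → R) : Prop where
  sum_eq_one : ∑ i, e i = 1
  idem : ∀ i, e i * e i = e i
  tri : ∀ i j, i < j → ∀ r, e j * r * e i = 0
  diag : ∀ i r, ∃ c : k, e i * r * e i = c • e i

variable {k : Type u} [Field k] {R : Type u} [Ring R] [Algebra k R]

theorem step {N : ℕ} {e : Fin N → R} (he : Triangular k R N e) [Module.Finite k R] (i : Fin N)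
    (M : Type u) [AddCommGroup M] [Module R M] [Module.Finite R M]
    (hM : ∀ j, i < j → ∀ m : M, e j • m = 0) :
    ∃ (Q : Type u) (_ : AddCommGroup Q) (_ : Module R Q) (f : Q →ₗ[R] M), Module.Finite R Q ∧ Module.Projective R Q ∧
      (∀ j, i ≤ j → ∀ x ∈ LinearMap.ker f, e j • x = 0) ∧
      (∀ j, i ≤ j → ∀ m : M, e j • m ∈ LinearMap.range f) := by
  letI : Module k M := Module.compHom M (algebraMap k R)
  haveI : IsScalarTower k R M := ⟨fun c r m => by
    show (c • r) • m = algebraMap k R c • (r • m)
    rw [Algebra.smul_def, mul_smul]⟩
  haveI : Module.Finite k M := Module.Finite.trans R M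
  let p : M →ₗ[k] M :=
    { toFun := fun m => e i • m
      map_add' := smul_add _
      map_smul' := fun c m => by
        show e i • algebraMap k R c • m = algebraMap k R c • e i • m
        rw [← mul_smul, ← mul_smul, Algebra.commutes] }
  let B := Module.Free.chooseBasis k (LinearMap.range p)
  haveI : Fintype (Module.Free.ChooseBasisIndex k (LinearMap.range p)) := inferInstance
  let ι := Module.Free.ChooseBasisIndex k (LinearMap.range p)
  let v : ι → M := fun l => (B l : M)
  have hv : ∀ l, e i • v l = v l := by
    intro l
    obtain ⟨m, hm⟩ := (B l).2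
    show e i • (B l : M) = (B l : M)
    rw [← hm]
    show e i • e i • m = e i • m
    rw [← mul_smul, he.idem]
  let φ : (ι → R) →ₗ[R] (ι → R) :=
    { toFun := fun x l => x l * e i
      map_add' := fun x y => funext fun l => add_mul _ _ _
      map_smul' := fun r x => funext fun l => mul_assoc _ _ _ }
  have hφ : ∀ x, φ (φ x) = φ x := fun x => funext fun l => by
    show x l * e i * e i = x l * e i
    rw [mul_assoc, he.idem]
  have hproj : Module.Projective R (LinearMap.range φ) :=
    Module.Projective.of_split (LinearMap.range φ).subtype φ.rangeRestrict (LinearMap.ext fun x => by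
      obtain ⟨y, hy⟩ := x.2
      refine Subtype.ext ?_
      show φ (x : ι → R) = (x : ι → R)
      rw [← hy, hφ])
  let F : (ι → R) →ₗ[R] M :=
    { toFun := fun x => ∑ l, x l • v l
      map_add' := fun x y => by simp [add_smul, Finset.sum_add_distrib]
      map_smul' := fun r x => by simp [Finset.smul_sum, mul_smul] }
  refine ⟨LinearMap.range φ, inferInstance, inferInstance, F.comp (LinearMap.range φ).subtype, inferInstance, hproj,
    ?_, ?_⟩
  · intro j hij x hx
    obtain ⟨y, hy⟩ := x.2
    have hxl : ∀ l, (x : ι → R) l * e i = (x : ι → R) l := fun l => by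
      rw [← hy]
      show y l * e i * e i = y l * e i
      rw [mul_assoc, he.idem]
    refine Subtype.ext (funext fun l => ?_)
    show e j * (x : ι → R) l = 0
    rcases lt_or_eq_of_le hij with hlt | rfl
    · rw [← hxl l, ← mul_assoc]
      exact he.tri i j hlt _
    · choose c hc using fun l => he.diag i ((x : ι → R) l)
      have hc' : ∀ l, e i * (x : ι → R) l = c l • e i := fun l => by rw [← hc l, mul_assoc, hxl l]
      have h0 : ∑ l, (x : ι → R) l • v l = 0 := hx
      have hterm : ∀ l, e i • (x : ι → R) l • v l = c l • v l := fun l => by
        rw [← mul_smul, hc', smul_assoc, hv]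
      have h1 : ∑ l, c l • v l = 0 := by
        have := congrArg (e i • ·) h0
        simpa only [Finset.smul_sum, hterm, smul_zero] using this
      have hli : LinearIndependent k v :=
        B.linearIndependent.map' (LinearMap.range p).subtype (Submodule.ker_subtype _)
      rw [hc', Fintype.linearIndependent_iff.1 hli c h1 l, zero_smul]
  · intro j hij m
    rcases lt_or_eq_of_le hij with hlt | rfl
    · rw [hM j hlt]; exact zero_mem _
    · let w : LinearMap.range p := ⟨e i • m, ⟨m, rfl⟩⟩
      refine ⟨⟨fun l => (B.repr w l) • e i, ⟨fun l => algebraMap k R (B.repr w l), funext fun l => ?_⟩⟩, ?_⟩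
      · show algebraMap k R (B.repr w l) * e i = _
        rw [Algebra.smul_def]
      · show ∑ l, ((B.repr w l) • e i) • v l = e i • m
        simp only [smul_assoc, hv]
        exact (map_sum (LinearMap.range p).subtype (fun l => B.repr w l • B l) Finset.univ).symm.trans
          (congrArg (LinearMap.range p).subtype (B.sum_repr w))

/-- dévissage: every finite module has a property containing the finite projectives and stable under
extensions and cokernels of monomorphisms -/
theorem devissage {N : ℕ} {e : Fin N → R} (he : Triangular k R N e) [Module.Finite k R]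
    (P : ModuleCat.{u} R → Prop)
    (hproj : ∀ M : ModuleCat.{u} R, Module.Finite R M → Module.Projective R M → P M)
    (hext : ∀ S : ShortComplex (ModuleCat.{u} R), S.ShortExact → P S.X₁ → P S.X₃ → P S.X₂)
    (hquot : ∀ S : ShortComplex (ModuleCat.{u} R), S.ShortExact → P S.X₁ → P S.X₂ → P S.X₃)
    (M : ModuleCat.{u} R) (hM : Module.Finite R M) : P M := by
  haveI : IsNoetherianRing R := isNoetherian_of_tower k (inferInstance : IsNoetherian k R)
  have ses : ∀ (X : ModuleCat.{u} R) (S : Submodule R X), (ShortComplex.mk (ModuleCat.ofHom S.subtype)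
      (ModuleCat.ofHom S.mkQ) (by ext ⟨x, hx⟩; exact (Submodule.Quotient.mk_eq_zero _).2 hx)).ShortExact := by
    intro X S
    exact { exact := (ShortComplex.moduleCat_exact_iff_range_eq_ker _).2 (by simp)
            mono_f := (ModuleCat.mono_iff_injective _).2 S.injective_subtype
            epi_g := (ModuleCat.epi_iff_surjective _).2 S.mkQ_surjective }
  suffices H : ∀ (i : ℕ) (M : ModuleCat.{u} R), Module.Finite R M →
      (∀ j : Fin N, i ≤ (j : ℕ) → ∀ m : M, e j • m = 0) → P M from
    H N M hM (fun j hj => absurd j.2 (by omega))
  intro i
  induction i with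
  | zero =>
    intro M hM h
    haveI : Subsingleton M := ⟨fun a b => by
      have h0 : ∀ m : M, m = 0 := fun m => by
        have := congrArg (· • m) he.sum_eq_one
        simp only [Finset.sum_smul, one_smul] at this
        rw [← this]
        exact Finset.sum_eq_zero fun j _ => h j (Nat.zero_le _) m
      rw [h0 a, h0 b]⟩
    haveI : Module.Free R M := Module.Free.of_subsingleton R M
    exact hproj M hM Module.Projective.of_free
  | succ i ih =>
    intro M hM h
    by_cases hi : i < N
    swap
    · exact ih M hM fun j hj => absurd j.2 (by omega)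
    obtain ⟨Q, _, _, f, hQf, hQp, hker, hrange⟩ := step he ⟨i, hi⟩ M (fun j hj => h j hj)
    let S₁ := ShortComplex.mk (ModuleCat.ofHom (LinearMap.ker f).subtype) (ModuleCat.ofHom f.rangeRestrict)
      (by ext ⟨x, hx⟩; exact hx)
    have hS₁ : S₁.ShortExact :=
      { exact := (ShortComplex.moduleCat_exact_iff_range_eq_ker _).2 (by
          show LinearMap.range (LinearMap.ker f).subtype = LinearMap.ker f.rangeRestrict
          rw [Submodule.range_subtype, LinearMap.ker_rangeRestrict])
        mono_f := (ModuleCat.mono_iff_injective _).2 (LinearMap.ker f).injective_subtype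
        epi_g := (ModuleCat.epi_iff_surjective _).2 f.surjective_rangeRestrict }
    have hK : P S₁.X₁ := ih _ (inferInstanceAs (Module.Finite R (LinearMap.ker f)))
      fun j hj x => Subtype.ext (hker j hj (x : Q) x.2)
    have hI : P (ModuleCat.of R (LinearMap.range f)) := hquot S₁ hS₁ hK (hproj _ hQf hQp)
    refine hext _ (ses M (LinearMap.range f)) hI (ih _ (inferInstanceAs (Module.Finite R (M ⧸ LinearMap.range f))) ?_)
    intro j hj x
    obtain ⟨m, rfl⟩ := Submodule.mkQ_surjective _ x
    exact (Submodule.Quotient.mk_eq_zero _).2 (hrange j hj m)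

end Groth.Agent.BeilCompact
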