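import Groth.Agent.CompactProj.Basic
import Groth.Agent.BrownDerived.Basic
import Mathlib.Algebra.Category.ModuleCat.Abelian
import Mathlib.Algebra.Category.ModuleCat.Colimits
import Mathlib.CategoryTheory.Preadditive.Yoneda.Basic
import Mathlib.CategoryTheory.Localization.Equivalence

/-!
Compactness as finite support of maps into coproducts, in any universe of morphisms; transfer between
models of the derived category; finite modules.
-/

set_option autoImplicit false
set_option backward.isDefEq.respectTransparency false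
set_option linter.style.haveILetI false

universe u v v' w w'

open CategoryTheory Limits Opposite

namespace Groth.Agent.BeilCompact

section

variable {D : Type w} [Category.{v} D] [Preadditive D]

/-- every map into a `u`-small coproduct is a finite sum of maps into the summands -/
def GenProp (K : D) : Prop :=
  ∀ (J : Type u) (X : J → D) (c : Cofan X), IsColimit c → ∀ f : K ⟶ c.pt,
    ∃ (s : Finset J) (g : ∀ j, K ⟶ X j), f = ∑ j ∈ s, g j ≫ c.inj j

theorem exists_proj {J : Type u} {X : J → D} {c : Cofan X} (hc : IsColimit c) :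
    ∃ π : ∀ j, c.pt ⟶ X j, (∀ j, c.inj j ≫ π j = 𝟙 _) ∧ ∀ i j, i ≠ j → c.inj i ≫ π j = 0 := by
  classical
  refine ⟨fun j => Cofan.IsColimit.desc hc fun i => if h : i = j then eqToHom (by rw [h]) else 0,
    fun j => ?_, fun i j h => ?_⟩
  · rw [Cofan.IsColimit.fac]; simp
  · rw [Cofan.IsColimit.fac, dif_neg h]

theorem gen_of_iso {K K' : D} (e : K ≅ K') (h : GenProp.{u} K) : GenProp.{u} K' := by
  intro J X c hc f
  obtain ⟨s, g, hg⟩ := h J X c hc (e.hom ≫ f)
  exact ⟨s, fun j => e.inv ≫ g j, by
    simp only [Category.assoc, ← Preadditive.comp_sum, ← hg, Iso.inv_hom_id_assoc]⟩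

theorem preserves_of_gen {K : D} (h : GenProp.{u} K) (J : Type u) :
    PreservesColimitsOfShape (Discrete J) (preadditiveCoyoneda.obj (op K) : D ⥤ AddCommGrpCat.{v}) := by
  classical
  suffices H : ∀ X : J → D, PreservesColimit (Discrete.functor X)
      (preadditiveCoyoneda.obj (op K) : D ⥤ AddCommGrpCat.{v}) by
    exact ⟨fun {F} => haveI := H (F.obj ∘ Discrete.mk); preservesColimit_of_iso_diagram _ Discrete.natIsoFunctor.symm⟩
  intro X
  refine ⟨fun {c} hc => ?_⟩
  obtain ⟨π, hπ1, hπ2⟩ := exists_proj (c := c) hc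
  choose S G hSG using fun f => h J X c hc f
  have key : ∀ (f : K ⟶ c.pt) (T : Finset J) (g : ∀ j, K ⟶ X j), f = ∑ j ∈ T, g j ≫ Cofan.inj c j →
      ∀ i, f ≫ π i = if i ∈ T then g i else 0 := by
    intro f T g hf i
    rw [hf, Preadditive.sum_comp]
    by_cases hi : i ∈ T
    · rw [if_pos hi, Finset.sum_eq_single_of_mem i hi (fun j _ hj => by rw [Category.assoc, hπ2 j i hj, comp_zero]),
        Category.assoc, hπ1, Category.comp_id]
    · rw [if_neg hi, Finset.sum_eq_zero (fun j hj => by
        rw [Category.assoc, hπ2 j i (by rintro rfl; exact hi hj), comp_zero])]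
  have expand : ∀ (f : K ⟶ c.pt) (T : Finset J), S f ⊆ T → f = ∑ j ∈ T, (f ≫ π j) ≫ Cofan.inj c j := by
    intro f T hT
    conv_lhs => rw [hSG f]
    rw [← Finset.sum_subset hT (fun j _ hj => by rw [key f _ _ (hSG f), if_neg hj, zero_comp])]
    exact Finset.sum_congr rfl fun j hj => by rw [key f _ _ (hSG f), if_pos hj]
  have supp : ∀ (f : K ⟶ c.pt) (j : J), j ∉ S f → f ≫ π j = 0 := fun f j hj => by
    rw [key f _ _ (hSG f), if_neg hj]
  refine ⟨?_⟩
  let desc : ∀ s : Cocone (Discrete.functor X ⋙ (preadditiveCoyoneda.obj (op K) : D ⥤ AddCommGrpCat.{v})),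
      (K ⟶ c.pt) → s.pt := fun s f => ∑ j ∈ S f, (s.ι.app ⟨j⟩).hom (f ≫ π j)
  have hdesc : ∀ s (f : K ⟶ c.pt) (T : Finset J), S f ⊆ T →
      desc s f = ∑ j ∈ T, (s.ι.app ⟨j⟩).hom (f ≫ π j) := by
    intro s f T hT
    refine Finset.sum_subset hT fun j _ hj => ?_
    rw [supp f j hj]
    exact map_zero _
  refine IsColimit.mk (fun s => AddCommGrpCat.ofHom (AddMonoidHom.mk' (desc s) fun f f' => ?_)) ?_ ?_
  · have hsub : S (f + f') ⊆ S (f + f') ∪ (S f ∪ S f') := Finset.subset_union_left
    rw [hdesc s (f + f') _ hsub,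
      hdesc s f (S (f + f') ∪ (S f ∪ S f')) (Finset.subset_union_left.trans Finset.subset_union_right),
      hdesc s f' (S (f + f') ∪ (S f ∪ S f')) (Finset.subset_union_right.trans Finset.subset_union_right),
      ← Finset.sum_add_distrib]
    refine Finset.sum_congr rfl fun j _ => ?_
    rw [Preadditive.add_comp]
    exact map_add _ _ _
  · rintro s ⟨i⟩
    refine AddCommGrpCat.hom_ext (AddMonoidHom.ext fun (g : K ⟶ X i) => ?_)
    show desc s (g ≫ Cofan.inj c i) = (s.ι.app ⟨i⟩).hom g
    rw [hdesc s _ (S (g ≫ Cofan.inj c i) ∪ {i}) Finset.subset_union_left,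
      Finset.sum_eq_single_of_mem i (Finset.mem_union_right _ (Finset.mem_singleton_self i))
        (fun j _ hj => by
          rw [Category.assoc, hπ2 i j (Ne.symm hj), comp_zero]
          exact map_zero _),
      Category.assoc, hπ1, Category.comp_id]
  · intro s m hm
    refine AddCommGrpCat.hom_ext (AddMonoidHom.ext fun (f : K ⟶ c.pt) => ?_)
    show m.hom f = desc s f
    conv_lhs => rw [expand f (S f) subset_rfl]
    refine (map_sum m.hom (fun j => (f ≫ π j) ≫ Cofan.inj c j) (S f)).trans ?_
    refine Finset.sum_congr rfl fun j _ => ?_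
    rw [← hm ⟨j⟩]
    rfl

theorem gen_of_preserves {K : D} (h : ∀ J : Type u, PreservesColimitsOfShape (Discrete J)
    (preadditiveCoyoneda.obj (op K) : D ⥤ AddCommGrpCat.{v})) : GenProp.{u} K := by
  classical
  intro J X c hc f
  haveI := h J
  have hc' := isColimitOfPreserves (preadditiveCoyoneda.obj (op K) : D ⥤ AddCommGrpCat.{v}) hc
  let N : AddSubgroup (K ⟶ c.pt) :=
    { carrier := {f | ∃ (s : Finset J) (g : ∀ j, K ⟶ X j), f = ∑ j ∈ s, g j ≫ c.inj j}
      zero_mem' := ⟨∅, fun _ => 0, by simp⟩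
      add_mem' := by
        rintro a b ⟨s, g, rfl⟩ ⟨t, g', rfl⟩
        refine ⟨s ∪ t, fun j => (if j ∈ s then g j else 0) + (if j ∈ t then g' j else 0), ?_⟩
        simp only [Preadditive.add_comp, Finset.sum_add_distrib]
        congr 1
        · rw [← Finset.sum_subset (Finset.subset_union_left (s₂ := t)) (fun j _ hj => by simp [hj])]
          exact Finset.sum_congr rfl fun j hj => by simp [hj]
        · rw [← Finset.sum_subset (Finset.subset_union_right (s₁ := s)) (fun j _ hj => by simp [hj])]
          exact Finset.sum_congr rfl fun j hj => by simp [hj]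
      neg_mem' := by
        rintro a ⟨s, g, rfl⟩
        exact ⟨s, fun j => - g j, by simp [Finset.sum_neg_distrib]⟩ }
  have hz : (AddCommGrpCat.ofHom (QuotientAddGroup.mk' N) :
      (preadditiveCoyoneda.obj (op K) : D ⥤ AddCommGrpCat.{v}).obj c.pt ⟶ AddCommGrpCat.of ((K ⟶ c.pt) ⧸ N)) = 0 := by
    refine hc'.hom_ext fun ⟨i⟩ => ?_
    rw [comp_zero]
    refine AddCommGrpCat.hom_ext (AddMonoidHom.ext fun (g : K ⟶ X i) => ?_)
    show QuotientAddGroup.mk' N (g ≫ c.inj i) = 0
    exact (QuotientAddGroup.eq_zero_iff _).2 ⟨{i}, fun j => if h : i = j then g ≫ eqToHom (by rw [h]) else 0, by simp⟩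
  have hf : QuotientAddGroup.mk' N f = 0 := DFunLike.congr_fun (congrArg AddCommGrpCat.Hom.hom hz) f
  exact (QuotientAddGroup.eq_zero_iff f).1 hf

/-- `GenProp` descends along an equivalence of categories. -/
theorem gen_of_map {D' : Type w'} [Category.{v'} D'] [Preadditive D'] (E : D ⥤ D') [E.IsEquivalence] [E.Additive]
    {K : D} (h : GenProp.{u} (E.obj K)) : GenProp.{u} K := by
  intro J X c hc f
  let c' : Cofan fun j => E.obj (X j) := Cofan.mk (E.obj c.pt) fun j => E.map (c.inj j)
  have hc' : IsColimit c' :=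
    isColimitCofanMkObjOfIsColimit E X c.inj (IsColimit.ofIsoColimit hc (Cofan.ext (Iso.refl _) (fun j => by simp)))
  obtain ⟨s, g, hg⟩ := h J _ c' hc' (E.map f)
  refine ⟨s, fun j => E.preimage (g j), E.map_injective ?_⟩
  rw [hg, Functor.map_sum]
  refine Finset.sum_congr rfl fun j _ => ?_
  rw [Functor.map_comp, Functor.map_preimage]
  rfl

theorem gen_map {D' : Type w'} [Category.{v'} D'] [Preadditive D'] (E : D ⥤ D') [E.IsEquivalence] [E.Additive]
    {K : D} (h : GenProp.{u} K) : GenProp.{u} (E.obj K) := by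
  haveI : E.asEquivalence.functor.Additive := inferInstanceAs E.Additive
  haveI : E.asEquivalence.inverse.Additive := inferInstance
  exact gen_of_map E.asEquivalence.inverse (gen_of_iso (E.asEquivalence.unitIso.app K) h)

end

section

variable {D : Type w} [Category.{u} D] [Preadditive D] [HasCoproducts.{u} D]

theorem gen_of_compact {K : D} (h : CohDer.IsCompactObject K) : GenProp.{u} K := by
  classical
  intro J X c hc f
  let e := hc.coconePointUniqueUpToIso (coproductIsCoproduct X)
  obtain ⟨x, hx⟩ := (h J X).2 (f ≫ e.hom)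
  obtain ⟨π, hπ1, hπ2⟩ := exists_proj hc
  refine ⟨DFinsupp.support x, fun j => x j, ?_⟩
  rw [← cancel_mono e.hom, ← hx, Preadditive.sum_comp]
  conv_lhs => rw [← DirectSum.sum_support_of x]
  rw [map_sum]
  refine Finset.sum_congr rfl fun j _ => ?_
  rw [CohDerTri.homSum_of, Category.assoc]
  congr 1
  exact (IsColimit.comp_coconePointUniqueUpToIso_hom hc (coproductIsCoproduct X) ⟨j⟩).symm

theorem compact_of_gen {K : D} (h : GenProp.{u} K) : CohDer.IsCompactObject K := by
  classical
  intro J X
  obtain ⟨π, hπ1, hπ2⟩ := exists_proj (coproductIsCoproduct X)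
  refine ⟨fun a b hab => DFinsupp.ext fun t => ?_, fun f => ?_⟩
  · have key : ∀ a, CohDer.homSumToHomCoprod K X a ≫ π t = a t := by
      intro a
      induction a using DirectSum.induction_on with
      | zero => rw [map_zero, zero_comp]; rfl
      | of t' φ =>
        rw [CohDerTri.homSum_of, Category.assoc]
        by_cases ht : t' = t
        · subst ht
          refine (congrArg (φ ≫ ·) (hπ1 t')).trans ?_
          simp
        · refine (congrArg (φ ≫ ·) (hπ2 t' t ht)).trans ?_
          rw [comp_zero, DirectSum.of_eq_of_ne _ _ _ (Ne.symm ht)]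
      | add a b ha hb => rw [map_add, Preadditive.add_comp, ha, hb]; rfl
    rw [← key a, ← key b, hab]
  · obtain ⟨s, g, hg⟩ := h J X _ (coproductIsCoproduct X) f
    refine ⟨∑ j ∈ s, DirectSum.of (fun j => K ⟶ X j) j (g j), ?_⟩
    rw [map_sum, hg]
    exact Finset.sum_congr rfl fun j _ => CohDerTri.homSum_of _ _ _ _

end

section Modules

variable {R : Type u} [Ring R]

/-- A finite module has compact `Hom`. -/
theorem gen_of_finite (P : ModuleCat.{u} R) [Module.Finite R P] : GenProp.{u} P := by
  classical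
  intro J X c hc f
  obtain ⟨π, hπ1, hπ2⟩ := exists_proj hc
  let N : J → Submodule R c.pt := fun t => LinearMap.range (c.inj t).hom
  have htop : (⨆ t, N t) = ⊤ := by
    rw [← Submodule.ker_mkQ (⨆ t, N t), LinearMap.ker_eq_top]
    have : ModuleCat.ofHom (Submodule.mkQ (⨆ t, N t)) = 0 :=
      Cofan.IsColimit.hom_ext hc _ _ fun t => by
        refine ModuleCat.hom_ext (LinearMap.ext fun y => ?_)
        exact (Submodule.Quotient.mk_eq_zero _).2 (Submodule.mem_iSup_of_mem t ⟨y, rfl⟩)
    exact congrArg ModuleCat.Hom.hom this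
  let E : Finset J → (c.pt ⟶ c.pt) := fun s => ∑ j ∈ s, π j ≫ c.inj j
  have hx : ∀ x : c.pt, ∃ s : Finset J, ∀ s', s ⊆ s' → (E s').hom x = x := by
    intro x
    refine Submodule.iSup_induction N (motive := fun x => ∃ s : Finset J, ∀ s', s ⊆ s' → (E s').hom x = x)
      (htop.ge (Submodule.mem_top (x := x))) ?_ ⟨∅, fun _ _ => map_zero _⟩ ?_
    · rintro t _ ⟨z, rfl⟩
      refine ⟨{t}, fun s' hs => ?_⟩
      show (c.inj t ≫ E s').hom z = _
      rw [Preadditive.comp_sum, Finset.sum_eq_single_of_mem t (hs (Finset.mem_singleton_self t))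
        (fun j _ hj => by rw [← Category.assoc, hπ2 t j (Ne.symm hj), zero_comp]), ← Category.assoc, hπ1,
        Category.id_comp]
    · rintro x y ⟨s, hs⟩ ⟨s₂, hs₂⟩
      exact ⟨s ∪ s₂, fun s' h => by
        rw [map_add, hs s' (Finset.union_subset_left h), hs₂ s' (Finset.union_subset_right h)]⟩
  obtain ⟨gens, hgens⟩ := (Module.finite_def.1 (inferInstance : Module.Finite R P))
  choose S hS using hx
  refine ⟨gens.biUnion fun p => S (f.hom p), fun j => f ≫ π j, ?_⟩
  have : f = f ≫ E (gens.biUnion fun p => S (f.hom p)) := by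
    refine ModuleCat.hom_ext (LinearMap.ext_on hgens fun p hp => ?_)
    exact (hS (f.hom p) _ (Finset.subset_biUnion_of_mem (fun p => S (f.hom p)) hp)).symm
  conv_lhs => rw [this]
  simp only [E, Preadditive.comp_sum, Category.assoc]

end Modules

section Transfer

variable {A : Type w} [Category.{u} A] [Abelian A]

/-- compactness of a complex does not depend on the model of the derived category -/
theorem gen_iff_gen {D₁ : Type w'} [Category.{v} D₁] [Preadditive D₁] [HasFiniteProducts D₁]
    {D₂ : Type w'} [Category.{v'} D₂] [Preadditive D₂] [HasFiniteProducts D₂]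
    (Q1 : CochainComplex A ℤ ⥤ D₁) [Q1.IsLocalization (HomologicalComplex.quasiIso A (ComplexShape.up ℤ))]
    (Q2 : CochainComplex A ℤ ⥤ D₂) [Q2.IsLocalization (HomologicalComplex.quasiIso A (ComplexShape.up ℤ))]
    (C : CochainComplex A ℤ) : GenProp.{u} (Q1.obj C) ↔ GenProp.{u} (Q2.obj C) := by
  let Φ := Localization.uniq Q1 Q2 (HomologicalComplex.quasiIso A (ComplexShape.up ℤ))
  let eQ : Q1 ⋙ Φ.functor ≅ Q2 := Localization.compUniqFunctor Q1 Q2 _
  haveI : Φ.functor.Additive := Functor.additive_of_preserves_binary_products _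
  exact ⟨fun h => gen_of_iso (eQ.app C) (gen_map Φ.functor h),
    fun h => gen_of_map Φ.functor (gen_of_iso (eQ.app C).symm h)⟩

end Transfer

end Groth.Agent.BeilCompact
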