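import Groth.Agent.BeilCompact.Gen
import Groth.Agent.BeilCompact.Devis
import Groth.Agent.WayOut.Basic
import Groth.Agent.CompactRetract.Finite
import Mathlib.Algebra.Homology.DerivedCategory.SingleTriangle
import Mathlib.Algebra.Category.ModuleCat.Biproducts
import Mathlib.Algebra.Homology.ShortComplex.ModuleCat

/-!
Compact objects of the derived category of a triangular finite dimensional algebra are the objects
with finite, bounded cohomology.
-/

set_option autoImplicit false
set_option backward.isDefEq.respectTransparency false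
set_option linter.style.haveILetI false

universe u

open CategoryTheory Limits Opposite Pretriangulated DerivedCategory

namespace Groth.Agent.BeilCompact

variable {k : Type u} [Field k] {R : Type u} [Ring R]

theorem exists_cover (M : ModuleCat.{u} R) :
    ∃ (ι : Type u) (E : ι → ModuleCat.{u} R) (π : ∐ E ⟶ M),
      (∀ i, E i ∈ ({ModuleCat.of R R} : Set (ModuleCat.{u} R))) ∧ Epi π := by
  refine ⟨M, fun _ => ModuleCat.of R R, Sigma.desc fun m => ModuleCat.ofHom (LinearMap.toSpanSingleton R M m),
    fun _ => rfl, (ModuleCat.epi_iff_surjective _).2 fun m =>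
      ⟨(Sigma.ι (fun _ : (M : Type u) => ModuleCat.of R R) m).hom (1 : R), ?_⟩⟩
  rw [← LinearMap.comp_apply, ← ModuleCat.hom_comp, Sigma.ι_desc]
  exact one_smul R m

theorem finite_homology [IsNoetherianRing R] (C : CochainComplex (ModuleCat.{u} R) ℤ) (i : ℤ)
    (h : Module.Finite R (C.X i)) : Module.Finite R (C.homology i) := by
  haveI : IsNoetherian R (C.X i) := isNoetherian_of_isNoetherianRing_of_finite R _
  haveI : Module.Finite R (C.cycles i) :=
    Module.Finite.of_injective (C.iCycles i).hom ((ModuleCat.mono_iff_injective _).1 inferInstance)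
  exact Module.Finite.of_surjective (C.homologyπ i).hom ((ModuleCat.epi_iff_surjective _).1 inferInstance)

section Small

variable [HasDerivedCategory.{u} (ModuleCat.{u} R)] [HasCoproducts.{u} (DerivedCategory (ModuleCat.{u} R))]

theorem finite_of_compact [IsNoetherianRing R] (K : DerivedCategory (ModuleCat.{u} R))
    (hK : CohDer.IsCompactObject K) :
    (∀ i, Module.Finite R ((homologyFunctor (ModuleCat.{u} R) i).obj K)) ∧
      ∃ a b : ℤ, ∀ i, i < a ∨ b < i → IsZero ((homologyFunctor (ModuleCat.{u} R) i).obj K) := by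
  obtain ⟨L, a, b, hb, hL, ⟨r⟩⟩ := CompactRetract.exists_finite_retract (S := {ModuleCat.of R R})
    (exists_cover (R := R))
    (fun E hE ι => by
      obtain rfl := hE
      exact preserves_of_gen (gen_of_finite (ModuleCat.of R R)) ι) K hK
  have hLf : ∀ i, Module.Finite R (L.homology i) := fun i => by
    obtain ⟨n, E, hE, ⟨e⟩⟩ := hL i
    obtain rfl : E = fun _ => ModuleCat.of R R := funext fun j => hE j
    let eL := (e ≪≫ ModuleCat.biproductIsoPi _).toLinearEquiv
    exact finite_homology L i (Module.Finite.equiv eL.symm)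
  have hr : ∀ i, Retract ((homologyFunctor (ModuleCat.{u} R) i).obj K) (L.homology i) := fun i =>
    (r.map (homologyFunctor (ModuleCat.{u} R) i)).trans
      (Retract.ofIso ((homologyFunctorFactors (ModuleCat.{u} R) i).app L))
  refine ⟨fun i => ?_, a, b, fun i hi => ?_⟩
  · haveI := hLf i
    refine Module.Finite.of_surjective (hr i).r.hom fun x => ⟨(hr i).i.hom x, ?_⟩
    exact LinearMap.congr_fun (congrArg ModuleCat.Hom.hom (hr i).retract) x
  · rw [IsZero.iff_id_eq_zero, ← (hr i).retract]
    have : IsZero (L.homology i) := HomologicalComplex.ExactAt.isZero_homology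
      (ShortComplex.exact_of_isZero_X₂ _ (hb i hi))
    rw [this.eq_of_src (hr i).r 0, comp_zero]

theorem compact_sgl [Algebra k R] [Module.Finite k R] {N : ℕ} {e : Fin N → R} (he : Triangular k R N e)
    (M : ModuleCat.{u} R) (hM : Module.Finite R M) :
    CohDer.IsCompactObject ((singleFunctor (ModuleCat.{u} R) 0).obj M) := by
  refine devissage he (fun M => CohDer.IsCompactObject ((singleFunctor (ModuleCat.{u} R) 0).obj M)) ?_ ?_ ?_ M hM
  · intro P _ _
    exact CohDerTri.isCompactObject_of_iso ((singleFunctorIsoCompQ (ModuleCat.{u} R) 0).app P).symm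
      (CompactProj.isCompactObject_single P (fun ι => preserves_of_gen (gen_of_finite P) ι) 0)
  · intro S hS h₁ h₃
    exact CohDerTri.isCompactObject_ext₂ _ hS.singleTriangle_distinguished h₁ h₃
  · intro S hS h₁ h₂
    exact CohDerTri.isCompactObject_ext₂ _ (rot_of_distTriang _ hS.singleTriangle_distinguished) h₂
      (CohDerTri.isCompactObject_shift h₁ 1)

theorem compact_of_finite [Algebra k R] [Module.Finite k R] {N : ℕ} {e : Fin N → R} (he : Triangular k R N e)
    (K : DerivedCategory (ModuleCat.{u} R))
    (hf : ∀ i, Module.Finite R ((homologyFunctor (ModuleCat.{u} R) i).obj K))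
    (a b : ℤ) (hb : ∀ i, i < a ∨ b < i → IsZero ((homologyFunctor (ModuleCat.{u} R) i).obj K)) :
    CohDer.IsCompactObject K := by
  refine WayOut.stable_of_bounded (P := fun X => CohDer.IsCompactObject X)
    { iso := fun e h => CohDerTri.isCompactObject_of_iso e h
      shift := fun n h => CohDerTri.isCompactObject_shift h n
      zero := fun h => CohDerTri.isCompactObject_of_isZero h
      ext := fun T hT h₁ h₃ => CohDerTri.isCompactObject_ext₂ T hT h₁ h₃ }
    (b + 1 - a).toNat K a b (by lia) ?_ ?_ (fun i => compact_sgl he _ (hf i))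
  · rw [isGE_iff]
    exact fun i hi => hb i (Or.inl hi)
  · rw [isLE_iff]
    exact fun i hi => hb i (Or.inr hi)

/-- The criterion in the small model. -/
theorem compact_iff [Algebra k R] [Module.Finite k R] {N : ℕ} {e : Fin N → R} (he : Triangular k R N e)
    (C : CochainComplex (ModuleCat.{u} R) ℤ) :
    GenProp.{u} ((Q : _ ⥤ DerivedCategory (ModuleCat.{u} R)).obj C) ↔
      (∀ i, Module.Finite R (C.homology i)) ∧ ∃ a b : ℤ, ∀ i, i < a ∨ b < i → IsZero (C.homology i) := by
  haveI : IsNoetherianRing R := isNoetherian_of_tower k (inferInstance : IsNoetherian k R)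
  let eH := fun i => ((homologyFunctorFactors (ModuleCat.{u} R) i).app C).toLinearEquiv
  refine ⟨fun h => ?_, fun ⟨hf, a, b, hb⟩ => ?_⟩
  · obtain ⟨hf, a, b, hb⟩ := finite_of_compact _ (compact_of_gen h)
    exact ⟨fun i => haveI : Module.Finite R ((Q ⋙ homologyFunctor (ModuleCat.{u} R) i).obj C) := hf i; Module.Finite.equiv (eH i), a, b,
      fun i hi => (hb i hi).of_iso ((homologyFunctorFactors (ModuleCat.{u} R) i).app C).symm⟩
  · refine gen_of_compact (compact_of_finite he _ (fun i => ?_) a b fun i hi => ?_)
    · haveI : Module.Finite R ((HomologicalComplex.homologyFunctor (ModuleCat.{u} R) (ComplexShape.up ℤ) i).obj C) := hf i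
      exact Module.Finite.equiv (eH i).symm
    · exact (hb i hi).of_iso ((homologyFunctorFactors (ModuleCat.{u} R) i).app C)

end Small

/-- The criterion in any model. -/
theorem compact_iff' [Algebra k R] [Module.Finite k R] {N : ℕ} {e : Fin N → R} (he : Triangular k R N e)
    [hd : HasDerivedCategory.{u + 1} (ModuleCat.{u} R)] (C : CochainComplex (ModuleCat.{u} R) ℤ) :
    GenProp.{u} ((Q : _ ⥤ DerivedCategory (ModuleCat.{u} R)).obj C) ↔
      (∀ i, Module.Finite R (C.homology i)) ∧ ∃ a b : ℤ, ∀ i, i < a ∨ b < i → IsZero (C.homology i) := by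
  haveI : HasFiniteProducts (DerivedCategory (ModuleCat.{u} R)) := inferInstanceAs (HasFiniteProducts (@DerivedCategory (ModuleCat.{u} R) _ _ hd))
  let small : HasDerivedCategory.{u} (ModuleCat.{u} R) := BrownDerived.smallDerived (ModuleCat.{u} R)
  let D₁ := @DerivedCategory (ModuleCat.{u} R) _ _ small
  letI : HasCoproducts.{u} D₁ := fun J => @BrownDerived.hasCoproducts (ModuleCat.{u} R) _ _ _ small J
  refine Iff.trans ?_ (@compact_iff k _ R _ small _ _ _ N e he C)
  exact gen_iff_gen (@DerivedCategory.Q (ModuleCat.{u} R) _ _ hd) (@DerivedCategory.Q (ModuleCat.{u} R) _ _ small) C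

end Groth.Agent.BeilCompact
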